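import Cfsg.Agent.Fi23Three.Iso
import Cfsg.Agent.Fi23Pts.Gens

/-!
Type M(23) as words in ten letters acting on 31671 points, each point standing for its member.
-/

set_option autoImplicit false
set_option maxRecDepth 100000
set_option linter.unusedSectionVars false

namespace CfsgLib.Fi23Three

open Cfsg CfsgLib.CosetEnum CfsgLib.FischerTypes CfsgLib.Fi23Pts
open CfsgLib.Transpositions.M23Unique (Conf exists_conf)

noncomputable section

/-- All letters are letters. -/
def ok (w : List ℕ) : Bool := w.all fun x => Nat.blt x 10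

/-- The two words agree on the points of the ten letters. -/
def agree (v w : List ℕ) : Bool := gpt.all fun p => Nat.beq (walkS v p) (walkS w p)

/-- The dictionary between a group with a class and the points. -/
structure FM (G : Type*) [Group G] (D : Set G) where
  S : Act
  e : Fi23.setup.Grp ≃* G
  class_eq : ∀ t : G, t ∈ D ↔ ∃ y : G, t = y * e A * y⁻¹

namespace FM

variable {G : Type*} [Group G] {D : Set G} (M : FM G D)

/-- The action of the group on the points. -/
def φ : G →* Equiv.Perm (Fin N) := M.S.φ.comp M.e.symm.toMonoidHom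

/-- The element of a word. -/
def el (w : List ℕ) : G := M.e (prodw Fi23.setup.g w)

/-- The member of a point. -/
def d (i : Fin N) : G := M.e (Fi23Pts.d i)

theorem el_nil : M.el [] = 1 := by simp [el, prodw]

theorem el_append (v w : List ℕ) : M.el (v ++ w) = M.el v * M.el w := by
  rw [el, el, el, prodw_append, map_mul]

theorem el_cons (a : ℕ) (w : List ℕ) : M.el (a :: w) = M.el [a] * M.el w := M.el_append [a] w

theorem el_reverse {w : List ℕ} (hw : ok w = true) : M.el w.reverse = (M.el w)⁻¹ := by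
  rw [el, el, ← map_inv, rev_word w fun x hx => by simpa using List.all_eq_true.mp hw x hx]

theorem el_mem_letter (k : ℕ) : M.el [k] = M.e (Fi23.setup.g k) := by simp [el, prodw]

theorem φ_inj : Function.Injective M.φ := fun a b h => M.e.symm.injective (M.S.inj h)

theorem φ_e (u : Fi23.setup.Grp) : M.φ (M.e u) = M.S.φ u := by simp [φ]

theorem φ_el {w : List ℕ} (hw : ok w = true) (i : Fin N) : ((M.φ (M.el w))⁻¹ i).val = walkS w i := by
  rw [el, M.φ_e]
  exact M.S.spec w (fun x hx => by simpa using List.all_eq_true.mp hw x hx) i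

theorem φ_el_apply {w : List ℕ} (hw : ok w = true) (i : Fin N) :
    (M.φ (M.el w) i).val = walkS w.reverse i := by
  have h := M.φ_el (w := w.reverse) (by simpa [ok] using hw) i
  rwa [M.el_reverse hw, map_inv, inv_inv] at h

theorem d_conj {y : G} {i j : Fin N} (h : M.φ y i = j) : M.d j = y * M.d i * y⁻¹ := by
  obtain ⟨u, rfl⟩ := M.e.surjective y
  rw [M.φ_e] at h
  rw [d, d, ← map_inv, ← map_mul, ← map_mul, M.S.d_conj h]

theorem d_inj {i j : Fin N} (h : M.d i = M.d j) : i = j := M.S.d_inj (M.e.injective h)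

theorem d_mul_self (i : Fin N) : M.d i * M.d i = 1 := by rw [d, ← map_mul, Fi23Pts.d_mul_self, map_one]

theorem d_inv (i : Fin N) : (M.d i)⁻¹ = M.d i := inv_eq_of_mul_eq_one_right (M.d_mul_self i)

theorem d_mem (i : Fin N) : M.d i ∈ D := by
  refine (M.class_eq _).2 ⟨M.e (prodw Fi23.setup.g (pw i))⁻¹, ?_⟩
  rw [d, ← map_inv, ← map_mul, ← map_mul, Fi23Pts.d_eq, inv_inv]

theorem exists_point {t : G} (ht : t ∈ D) : ∃ i, M.d i = t := by
  obtain ⟨y, rfl⟩ := (M.class_eq t).1 ht
  obtain ⟨u, rfl⟩ := M.e.surjective y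
  exact ⟨M.S.φ u pa, by rw [d, ← map_inv, ← map_mul, ← map_mul, M.S.conj_A]⟩

theorem exists_move (i j : Fin N) : ∃ y : G, M.φ y i = j :=
  ⟨M.e ((prodw Fi23.setup.g (pw j))⁻¹ * prodw Fi23.setup.g (pw i)), by
    rw [M.φ_e, map_mul, Equiv.Perm.mul_apply]
    conv_lhs => arg 2; arg 2; rw [← M.S.pw_root i]
    rw [map_inv (M.S.φ) (prodw Fi23.setup.g (pw (i : ℕ))), Equiv.Perm.inv_def, Equiv.apply_symm_apply]
    exact M.S.pw_root j⟩

theorem commute_iff (y : G) (i : Fin N) : Commute y (M.d i) ↔ M.φ y i = i := by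
  obtain ⟨u, rfl⟩ := M.e.surjective y
  rw [M.φ_e, d, ← M.S.commute_iff]
  exact ⟨fun h => M.e.injective (by rw [map_mul, map_mul]; exact h), fun h => h.map M.e.toMonoidHom⟩

theorem letter_point {k : ℕ} (hk : k < 10) : M.el [k] = M.d (gpF k) := by
  rw [M.el_mem_letter, d, M.S.d_gpF hk]

theorem eq_one_of_fix {t : G} (h : ∀ k, k < 10 → M.φ t (gpF k) = gpF k) : t = 1 := by
  obtain ⟨u, rfl⟩ := M.e.surjective t
  have hu : u = 1 := M.S.eq_one_of_comm fun k hk => by simpa [M.φ_e] using h k hk
  rw [hu, map_one]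

theorem eq_of_agree {v w : List ℕ} (hv : ok v = true) (hw : ok w = true) (h : agree v w = true) :
    M.el v = M.el w := by
  have key : M.el w * (M.el v)⁻¹ = 1 := by
    refine M.eq_one_of_fix fun k hk => ?_
    rw [map_mul, map_inv, Equiv.Perm.mul_apply]
    have hk' : gpt.getD k 0 ∈ gpt := by
      have : k < gpt.length := by simpa [gpt] using hk
      rw [List.getD_eq_getElem _ _ this]; exact List.getElem_mem this
    have h1 := Nat.eq_of_beq_eq_true (List.all_eq_true.mp h _ hk')
    have h2 : (M.φ (M.el v))⁻¹ (gpF k) = (M.φ (M.el w))⁻¹ (gpF k) := Fin.ext (by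
      rw [M.φ_el hv, M.φ_el hw]; exact h1)
    rw [h2]
    simp
  exact (mul_inv_eq_one.mp key).symm

theorem el_ne_of_moves {v w : List ℕ} (hv : ok v = true) (hw : ok w = true) (i : ℕ) (hi : i < 31671)
    (h : Nat.beq (walkS v i) (walkS w i) = false) : M.el v ≠ M.el w := by
  intro e
  have h1 := M.φ_el hv ⟨i, hi⟩
  rw [e, M.φ_el hw] at h1
  simp [← h1] at h

theorem card (M : FM G D) : Nat.card G = 4089470473293004800 := by
  rw [← Nat.card_congr M.e.toEquiv, M.S.card]

end FM

/-- A group of type M(23) has a dictionary. -/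
theorem exists_fm {G : Type*} [Group G] [Finite G] {D : Set G} (H : M23.Hyp G D) : Nonempty (FM G D) := by
  obtain ⟨-, x, hx, y, hy, hxy, -⟩ := id H.type
  obtain ⟨F, hF⟩ := exists_conf H hx hy hxy
  obtain ⟨e₀, he⟩ := exists_iso hF H
  let e : Fi23.setup.Grp ≃* G := e₀
  obtain ⟨S⟩ := exists_act
  have hA : e A = F 0 := he _
  refine ⟨⟨S, e, fun t => ?_⟩⟩
  erw [hA]
  constructor
  · intro ht
    obtain ⟨g, hgt⟩ := H.prim.1 _ (hF.mem 0 (by norm_num)).1 t ht
    exact ⟨g, hgt.symm⟩
  · rintro ⟨g, rfl⟩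
    exact H.group.2.1 g _ (hF.mem 0 (by norm_num)).1

end

end CfsgLib.Fi23Three
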