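import Cfsg.Agent.Transpositions.M23Sphere
import Cfsg.Agent.Transpositions.TypeM23Structure
import Cfsg.Agent.CosetEnum.Fi23Simple.Final

/-!
A group of type M(23) is the presented Fischer group `Fi23`: the ten letters go to a configuration,
and the stabiliser of the base coset goes to the centraliser of a member.
-/

set_option autoImplicit false
set_option maxRecDepth 100000
set_option linter.unusedSectionVars false

namespace CfsgLib.Fi23Three

open Cfsg CfsgLib.FischerTypes CfsgLib.Transpositions
open CfsgLib.Transpositions.Braid (adjb pw pw_replicate)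
open CfsgLib.Transpositions.M23Unique (Conf exists_conf)
open CfsgLib.CosetEnum (prodw)

variable {G : Type*} [Group G] [Finite G] {D : Set G}

/-- The image of a generator. -/
def img10 (F : ℕ → G) (y : G) : Spor.Fi23.Gen → G
  | .a => F 0
  | .b => F 1
  | .c => F 2
  | .d => F 3
  | .e => F 4
  | .f => F 5
  | .g => F 6
  | .j => y
  | .h => F 7
  | .i => F 8

/-- The letter of a generator other than `j`. -/
def let9 : Spor.Fi23.Gen → Option ℕ
  | .a => some 0
  | .b => some 1
  | .c => some 2
  | .d => some 3
  | .e => some 4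
  | .f => some 5
  | .g => some 6
  | .j => none
  | .h => some 7
  | .i => some 8

theorem label_spec : ∀ a b : Spor.Fi23.Gen, Spor.coxLabel Spor.Fi23.edges a b =
    match let9 a, let9 b with
    | some s, some t => if s = t then 1 else if adjb s t then 3 else 2
    | some s, none => if s = 6 then 3 else 2
    | none, some t => if t = 6 then 3 else 2
    | none, none => 1 := by
  intro a b; cases a <;> cases b <;> decide

theorem img10_let9 (F : ℕ → G) (y : G) (a : Spor.Fi23.Gen) :
    (∀ s, let9 a = some s → img10 F y a = F s ∧ s < 9) ∧ (let9 a = none → img10 F y a = y) := by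
  cases a <;> simp [let9, img10]

theorem mul_pow_three {u v : G} (hu : u * u = 1) (hv : v * v = 1) (hb : u * v * u = v * u * v) :
    (u * v) ^ 3 = 1 := by
  calc (u * v) ^ 3 = u * v * u * (v * u * v) := by simp [pow_succ, mul_assoc]
    _ = u * v * (u * u) * (v * u) := by rw [← hb]; simp [mul_assoc]
    _ = u * (v * v) * u := by rw [hu, mul_one]; simp [mul_assoc]
    _ = 1 := by rw [hv, mul_one, hu]

variable {x y : G} {F : ℕ → G} (hF : Conf D x y F) (H : M23.Hyp G D)

include hF H

theorem exists_hom : ∃ φ : Spor.Fi23 →* G, ∀ a, φ (PresentedGroup.of a) = img10 F y a := by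
  have hy2 : y * y = 1 := FischerTypes.mul_self H.group.1 hF.memy
  have h6y : F 6 * y * F 6 = y * F 6 * y :=
    FischerTypes.braid H.group.1 (hF.mem 6 (by norm_num)).1 hF.memy (fun h => hF.not_comm_y H h.symm)
  have hrel : ∀ r ∈ (Spor.coxRelators Spor.Fi23.edges ∪ {r | r ∈ Spor.Fi23.extra} :
      Set (FreeGroup Spor.Fi23.Gen)), FreeGroup.lift (img10 F y) r = 1 := by
    rintro r (⟨a, -, b, -, rfl⟩ | hr)
    · rw [map_pow, map_mul, FreeGroup.lift_apply_of, FreeGroup.lift_apply_of, label_spec]
      rcases ha : let9 a with _ | s <;> rcases hb : let9 b with _ | t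
      · rw [(img10_let9 F y a).2 ha, (img10_let9 F y b).2 hb, pow_one, hy2]
      · rw [(img10_let9 F y a).2 ha, ((img10_let9 F y b).1 t hb).1]
        obtain ⟨-, ht⟩ := (img10_let9 F y b).1 t hb
        show (y * F t) ^ (if t = 6 then 3 else 2) = 1
        split_ifs with h6
        · subst h6
          exact mul_pow_three hy2 (hF.braided.sq 6) h6y.symm
        · rw [(hF.comm_y t ht h6).mul_pow, pow_two, pow_two, hy2, hF.braided.sq, one_mul]
      · rw [((img10_let9 F y a).1 s ha).1, (img10_let9 F y b).2 hb]
        obtain ⟨-, hs⟩ := (img10_let9 F y a).1 s ha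
        show (F s * y) ^ (if s = 6 then 3 else 2) = 1
        split_ifs with h6
        · subst h6
          exact mul_pow_three (hF.braided.sq 6) hy2 h6y
        · rw [(hF.comm_y s hs h6).symm.mul_pow, pow_two, pow_two, hy2, hF.braided.sq, one_mul]
      · rw [((img10_let9 F y a).1 s ha).1, ((img10_let9 F y b).1 t hb).1]
        show (F s * F t) ^ (if s = t then 1 else if adjb s t then 3 else 2) = 1
        by_cases hst : s = t
        · rw [if_pos hst, pow_one, hst, hF.braided.sq]
        rw [if_neg hst]
        cases hadj : adjb s t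
        · rw [if_neg Bool.false_ne_true, (hF.braided.comm _ _ hadj).mul_pow, pow_two, pow_two,
            hF.braided.sq, hF.braided.sq, one_mul]
        · rw [if_pos rfl]
          exact mul_pow_three (hF.braided.sq s) (hF.braided.sq t) (hF.braided.braid _ _ hadj)
    · have z1 := hF.pw_z1 H
      have z3 := hF.pw_spider H
      rw [Braid.Words.z1, pw_replicate] at z1
      rw [Braid.Words.spider, pw_replicate] at z3
      simp only [Set.mem_ofPred_eq, Spor.Fi23.extra, List.mem_cons, List.not_mem_nil, or_false] at hr
      rcases hr with rfl | rfl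
      · rw [map_pow]; simpa [pw, img10, mul_assoc] using z3
      · rw [map_pow]; simpa [pw, img10, mul_assoc] using z1
  exact ⟨PresentedGroup.toGroup hrel, fun a => PresentedGroup.toGroup.of hrel⟩

theorem exists_iso : ∃ e : Spor.Fi23 ≃* G, ∀ a, e (PresentedGroup.of a) = img10 F y a := by
  obtain ⟨φ, hφ⟩ := exists_hom hF H
  haveI := CfsgLib.CosetEnum.Fi23.finite_grp
  haveI := CfsgLib.CosetEnum.Fi23.isSimpleGroup_Fi23
  have hinj : Function.Injective φ := by
    rw [← MonoidHom.ker_eq_bot_iff]
    rcases (inferInstance : φ.ker.Normal).eq_bot_or_eq_top with hb | hb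
    · exact hb
    · exfalso
      have ha : φ (PresentedGroup.of Spor.Fi23.Gen.a) = 1 := MonoidHom.mem_ker.1 (hb ▸ Subgroup.mem_top _)
      rw [hφ] at ha
      exact FischerTypes.ne_one H.group.1 (hF.mem 0 (by norm_num)).1 ha
  have hcard : Nat.card Spor.Fi23 = Nat.card G := by
    rw [CfsgLib.CosetEnum.Fi23.card_Fi23, TypeM23.card_group H]
  exact ⟨MulEquiv.ofBijective φ ((Nat.bijective_iff_injective_and_card φ).2 ⟨hinj, hcard⟩), hφ⟩

end CfsgLib.Fi23Three
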